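import Cfsg.Agent.H384.Cyc.Tools
import Cfsg.Agent.H753.CycTools
import Cfsg.Agent.H161.G2Main
import Cfsg.Agent.H954.OutExcC
import Cfsg.Agent.H934.HeisF4G2
import Cfsg.Agent.H120.GThreeF
import Cfsg.Agent.S2121
import Cfsg.Agent.S1055

/-!
# TEAM TWOCYC (S3507), task [G2]: `G₂(q)`, `q ≥ 4` (helper332)

* `order_le` : the elements of `G₂(q)` have order at most `q² + q + 1` (`q ≥ 3`);
* `md_other`, `md_three` : degrees;
* `smC` : `SmC` for `q ≥ 4`.
-/

set_option autoImplicit false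

namespace Cfsg.Agent.H332.Cyc

open Cfsg Cfsg.Lie Cfsg.Agent.H384.Cyc Cfsg.Agent.H954.OutDeg

universe u v

section

variable {F : Type u} [Field F] [Fintype F]

theorem order_le {p n : ℕ} [Fact p.Prime] (hF : Fintype.card F = p ^ n) (hq : 3 ≤ p ^ n)
    (t : ↥(chevG2.group F)) : orderOf t ≤ (p ^ n) ^ 2 + p ^ n + 1 := by
  have hp : p.Prime := Fact.out
  have hp2 := hp.two_le
  have hn : n ≠ 0 := by rintro rfl; rw [pow_zero] at hq; omega
  have hpq : p ≤ p ^ n := Nat.le_self_pow hn p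
  obtain ⟨N, hN, h⟩ := Cfsg.Agent.H161.G2Main.upper hF hq ⟨t, rfl⟩
  have e : p ^ (2 * n) = (p ^ n) ^ 2 := by rw [← pow_mul, mul_comm]
  rw [e] at h
  generalize hqd : p ^ n = q at *
  have h1 : 0 < N ∧ N ≤ q ^ 2 + q + 1 := by
    have hqq : q ≤ q ^ 2 := Nat.le_self_pow (by norm_num) q
    rcases h with h | h | h | h | h | ⟨h2, h⟩ | ⟨h2, h⟩
    · rw [h]
      refine ⟨Nat.mul_pos hp.pos (by omega), ?_⟩
      have : p * (q + 1) ≤ q * (q + 1) := Nat.mul_le_mul_right _ hpq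
      nlinarith
    · rw [h]
      refine ⟨Nat.mul_pos hp.pos (by omega), ?_⟩
      have : p * (q - 1) ≤ q * q := Nat.mul_le_mul hpq (by omega)
      nlinarith
    · have : 9 ≤ q ^ 2 := by nlinarith
      omega
    · omega
    · omega
    · have h4 : 4 ≤ q := by
        rcases Nat.lt_or_ge q 4 with h5 | h5
        · exfalso
          have h6 : q = 3 := by omega
          rw [h2, h6] at hqd
          have h7 : 2 ∣ 2 ^ n := dvd_pow_self 2 hn
          rw [hqd] at h7
          omega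
        · exact h5
      have : 16 ≤ q ^ 2 := by nlinarith
      rcases h with h | h <;> omega
    · rw [h]
      refine ⟨pow_pos hp.pos 2, ?_⟩
      have : p ^ 2 ≤ q ^ 2 := Nat.pow_le_pow_left hpq 2
      omega
  exact (Nat.le_of_dvd h1.1 hN).trans h1.2

theorem md_other (h3 : (3 : F) ≠ 0) (hs : IsSimpleGroup ↥(chevG2.group F)) :
    MD ↥(chevG2.group F) ((Fintype.card F - 1) * Fintype.card F ^ 2) := by
  refine Cfsg.Agent.H954.OutExcC.md_chev_heis (n := 4) (by simp [ChevalleyStructure.Elts.InList]) rfl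
    Cfsg.Agent.H934.HeisF4G2.tabG Cfsg.Agent.H934.HeisF4G2.tabG_ok ?_ hs
  have h : ∀ i, Cfsg.Agent.H934.HeisF4G2.tabG.e i = 1 ∨ Cfsg.Agent.H934.HeisF4G2.tabG.e i = -1 ∨
    Cfsg.Agent.H934.HeisF4G2.tabG.e i = 3 ∨ Cfsg.Agent.H934.HeisF4G2.tabG.e i = -3 := by decide
  intro i
  rcases h i with h | h | h | h <;> rw [h]
  · simp
  · simp
  · exact_mod_cast h3
  · push_cast
    exact neg_ne_zero.2 h3

theorem md_three (h3 : (3 : F) = 0) (hq : 9 ≤ Fintype.card F) :
    MD ↥(chevG2.group F) (Fintype.card F ^ 4 + Fintype.card F ^ 2 + 1) := by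
  refine Cfsg.Agent.H753.Cyc.md_of_rep fun k ρ hρ hk => ?_
  have hfr : Module.finrank ℂ (Fin k → ℂ) = k := Module.finrank_fin_fun ℂ
  have := Cfsg.Agent.H120.GTwo.main_three h3 hq ρ hρ (by rw [hfr]; exact hk)
  rwa [hfr] at this

theorem simple_G2 (hq : 3 ≤ Fintype.card F) : IsSimpleGroup ↥(chevG2.group F) := by
  classical
  obtain ⟨z, hz0, hz1⟩ : ∃ z : F, z ≠ 0 ∧ z ≠ 1 := by
    by_contra hcon
    push Not at hcon
    have h1 : Fintype.card F ≤ ({0, 1} : Finset F).card := by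
      rw [← Finset.card_univ]
      refine Finset.card_le_card fun x _ => ?_
      by_cases hx : x = 0
      · simp [hx]
      · simp [hcon x hx]
    have h2 : ({0, 1} : Finset F).card ≤ 2 := Finset.card_le_two
    omega
  exact (Cfsg.Agent.S1055.result (F := F) ⟨z, hz0, hz1⟩).1

theorem two_mul_le {p f : ℕ} (hp : 2 ≤ p) (hf : f ≠ 0) : 2 * f ≤ p ^ f := by
  have h1 : 2 * f ≤ 2 ^ f := by
    obtain ⟨k, rfl⟩ := Nat.exists_eq_succ_of_ne_zero hf
    clear hf
    induction k with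
    | zero => norm_num
    | succ k ih =>
      rw [pow_succ]
      have : 2 ≤ 2 ^ (k + 1) := Nat.le_self_pow (by omega) 2
      omega
  exact h1.trans (Nat.pow_le_pow_left hp f)

/-- **`G₂(q)`, `q ≥ 4`.** -/
theorem smC (hq : 4 ≤ Fintype.card F) : SmC ↥(chevG2.group F) := by
  classical
  obtain ⟨p, hchar⟩ := CharP.exists F
  have := hchar
  obtain ⟨n, hp, hF⟩ := FiniteField.card F p
  have : Fact p.Prime := ⟨hp⟩
  have hq3 : 3 ≤ p ^ (n : ℕ) := by rw [← hF]; omega
  have hout := Cfsg.Agent.S2121.result (F := F) p n hF hq3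
  have hs := simple_G2 (F := F) (by omega)
  have : Finite (GL chevG2.Idx F) := inferInstance
  have hord : ∀ t : ↥(chevG2.group F), orderOf t ≤ Fintype.card F ^ 2 + Fintype.card F + 1 := by
    intro t
    rw [hF]
    exact order_le hF hq3 t
  have hn0 : 0 < (n : ℕ) := n.pos
  have hM : Mo ↥(chevG2.group F) ((if p = 3 then 2 * (n : ℕ) else n) *
      (Fintype.card F ^ 2 + Fintype.card F + 1)) :=
    Cfsg.Agent.H753.Cyc.mo_of_out hout (by split_ifs <;> omega) hord
  by_cases h3 : p = 3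
  · rw [if_pos h3] at hM
    have h30 : (3 : F) = 0 := by
      have h1 := CharP.cast_eq_zero F p
      rw [h3] at h1
      exact_mod_cast h1
    have h9 : 9 ≤ Fintype.card F := by
      rw [hF, h3] at hq ⊢
      rcases Nat.lt_or_ge (n : ℕ) 2 with h4 | h4
      · have : (n : ℕ) = 1 := by omega
        rw [this] at hq
        omega
      · calc 9 = 3 ^ 2 := by norm_num
          _ ≤ 3 ^ (n : ℕ) := Nat.pow_le_pow_right (by norm_num) h4
    refine ⟨_, _, hM, md_three h30 h9, ?_⟩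
    have h5 : 2 * (n : ℕ) ≤ Fintype.card F := by
      rw [hF]
      exact two_mul_le hp.two_le (by omega)
    generalize Fintype.card F = q at *
    have h6 : 2 * (2 * (n : ℕ) * (q ^ 2 + q + 1)) ≤ 2 * (q * (q ^ 2 + q + 1)) :=
      Nat.mul_le_mul_left _ (Nat.mul_le_mul_right _ h5)
    have h7 : 81 ≤ q ^ 2 := by nlinarith
    have h8 : q * q ^ 2 * 9 ≤ q ^ 4 := by
      calc q * q ^ 2 * 9 ≤ q * q ^ 2 * q := Nat.mul_le_mul_left _ h9
        _ = q ^ 4 := by ring
    nlinarith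
  · rw [if_neg h3] at hM
    have h30 : (3 : F) ≠ 0 := by
      intro h0
      have h1 : ((3 : ℕ) : F) = 0 := by exact_mod_cast h0
      have h2 : p ∣ 3 := (CharP.cast_eq_zero_iff F p 3).1 h1
      exact h3 ((Nat.prime_dvd_prime_iff_eq hp Nat.prime_three).1 h2)
    refine ⟨_, _, hM, md_other h30 hs, ?_⟩
    have h5 : 2 * (n : ℕ) ≤ Fintype.card F := by
      rw [hF]
      exact two_mul_le hp.two_le (by omega)
    generalize Fintype.card F = q at *
    obtain ⟨k, rfl⟩ : ∃ k, q = k + 4 := ⟨q - 4, by omega⟩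
    have h6 : 2 * ((n : ℕ) * ((k + 4) ^ 2 + (k + 4) + 1)) ≤ (k + 4) * ((k + 4) ^ 2 + (k + 4) + 1) := by
      rw [← mul_assoc]
      exact Nat.mul_le_mul_right _ h5
    have h7 : k + 4 - 1 = k + 3 := by omega
    rw [h7]
    nlinarith

end

end Cfsg.Agent.H332.Cyc
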