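import Cfsg.Agent.H332.Cyc.G2Big

/-!
# TEAM TWOCYC (S3507), task [G2]: `Ord` for `G₂(q)`, `q ≥ 3` (helper332)
-/

set_option autoImplicit false

namespace Cfsg.Agent.H332.Cyc

open Cfsg Cfsg.Lie Cfsg.Agent.H384.Cyc

universe u v

theorem ord_arith {q a : ℕ} (hq : 3 ≤ q) (ha : a ≤ q) :
    2 * (a * (q ^ 2 + q + 1)) ^ 2 < q ^ 6 * (q ^ 2 - 1) * (q ^ 6 - 1) := by
  have h1 : q ^ 2 + q + 1 ≤ 2 * q ^ 2 := by nlinarith
  have h2 : a * (q ^ 2 + q + 1) ≤ q * (2 * q ^ 2) := Nat.mul_le_mul ha h1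
  have h3 : (a * (q ^ 2 + q + 1)) ^ 2 ≤ (q * (2 * q ^ 2)) ^ 2 := Nat.pow_le_pow_left h2 2
  have h4 : (q * (2 * q ^ 2)) ^ 2 = 4 * q ^ 6 := by ring
  have h5 : 9 ≤ q ^ 2 := by nlinarith
  have h6 : 3 ^ 6 ≤ q ^ 6 := Nat.pow_le_pow_left hq 6
  have h7 : 0 < q ^ 6 := by positivity
  have h8 : q ^ 6 * 8 ≤ q ^ 6 * (q ^ 2 - 1) := Nat.mul_le_mul_left _ (by omega)
  have h9 : q ^ 6 * 8 * 2 ≤ q ^ 6 * (q ^ 2 - 1) * (q ^ 6 - 1) := Nat.mul_le_mul h8 (by omega)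
  omega

/-- **`Ord` for `G₂(q)`, `q ≥ 3`.** -/
theorem ord_g2 {F : Type u} [Field F] [Fintype F] (hq : 3 ≤ Fintype.card F) : H384.Cyc.Ord ↥(chevG2.group F) := by
  classical
  obtain ⟨p, hchar⟩ := CharP.exists F
  have := hchar
  obtain ⟨n, hp, hF⟩ := FiniteField.card F p
  have : Fact p.Prime := ⟨hp⟩
  have hq3 : 3 ≤ p ^ (n : ℕ) := by rw [← hF]; omega
  have hout := Cfsg.Agent.S2121.result (F := F) p n hF hq3
  have : Finite (GL chevG2.Idx F) := inferInstance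
  have hord : ∀ t : ↥(chevG2.group F), orderOf t ≤ Fintype.card F ^ 2 + Fintype.card F + 1 := by
    intro t
    rw [hF]
    exact order_le hF hq3 t
  have hn0 : 0 < (n : ℕ) := n.pos
  have hM : Mo ↥(chevG2.group F) ((if p = 3 then 2 * (n : ℕ) else n) *
      (Fintype.card F ^ 2 + Fintype.card F + 1)) :=
    Cfsg.Agent.H753.Cyc.mo_of_out hout (by split_ifs <;> omega) hord
  refine ⟨_, hM, ?_⟩
  rw [Cfsg.Agent.S1059.result (F := F) rfl]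
  refine ord_arith hq ?_
  have h5 : 2 * (n : ℕ) ≤ Fintype.card F := by
    rw [hF]
    exact two_mul_le hp.two_le (by omega)
  split_ifs <;> omega

/-- the same for all groups isomorphic to `G₂(q)` -/
theorem ord_of_g2 {T : Type v} [Group T] {F : Type u} [Field F] [Fintype F] (hq : 3 ≤ Fintype.card F)
    (e : T ≃* ↥(chevG2.group F)) : H384.Cyc.Ord T := (ord_g2 hq).congr e.symm

end Cfsg.Agent.H332.Cyc
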