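import Cfsg.Agent.H332.Cyc.G2Big
import Cfsg.Agent.H482.TwoCyc.Row
import Cfsg.Agent.H62.PPChev
import Cfsg.Agent.SmallSimple.S1000.SevenCases

/-!
# TEAM TWOCYC (S3507), task [G2]: the group `G₂(3)` (helper332)

`row_three` : an almost simple primitive group with socle `G₂(3)` has no element with exactly two cycles.

The indices of the proper subgroups up to 52: a subgroup of index prime to 3 has index at least 243; the Sylow
subgroups of order 7 and 13 are self-centralising; only 27 and 42 are left.  A subgroup of index 27 has a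
self-normalising Sylow 7-subgroup, so a normal 7-complement; the Frattini argument for the prime 13.  Index 42 means
an element of order 21.
-/

set_option autoImplicit false

namespace Cfsg.Agent.H332.Cyc

open Cfsg Cfsg.Lie Subgroup

universe u v w

section rule

variable {X : Type u} [Group X] [Finite X] {p : ℕ}

theorem mem_zpowers_of_comm (hp : p.Prime) (hp2 : ¬ p ^ 2 ∣ Nat.card X)
    (hiso : ∀ (x : X) (r : ℕ), r.Prime → orderOf x ≠ p * r) {x : X} (hx : orderOf x = p) (g : X)
    (hg : x * g = g * x) : g ∈ zpowers x := by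
  have hC : ∀ {r : ℕ}, r.Prime → r ∣ Nat.card (centralizer ({x} : Set X)) → r = p := by
    intro r hr hd
    by_contra hne
    have : Fact r.Prime := ⟨hr⟩
    obtain ⟨c, hc⟩ := exists_prime_orderOf_dvd_card' r hd
    have hcx : Commute x (c : X) := (mem_centralizer_singleton_iff.1 c.2).symm
    have hco : orderOf (c : X) = r := by rw [Subgroup.orderOf_coe, hc]
    refine hiso (x * c) r hr ?_
    rw [hcx.orderOf_mul_eq_mul_orderOf_of_coprime (by
      rw [hx, hco]
      exact (Nat.coprime_primes hp hr).2 (Ne.symm hne)), hx, hco]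
  have hk := Nat.eq_prime_pow_of_unique_prime_dvd (n := Nat.card (centralizer ({x} : Set X))) Nat.card_pos.ne' hC
  set k := (Nat.card (centralizer ({x} : Set X))).primeFactorsList.length with hkd
  have hk1 : k ≤ 1 := by
    by_contra hlt
    apply hp2
    refine (pow_dvd_pow p (show 2 ≤ k by omega)).trans ?_
    rw [← hk]
    exact Subgroup.card_subgroup_dvd_card _
  have hle : zpowers x ≤ centralizer ({x} : Set X) := by
    rw [zpowers_le]
    exact mem_centralizer_singleton_iff.2 rfl
  have heq : zpowers x = centralizer ({x} : Set X) := by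
    refine Subgroup.eq_of_le_of_card_ge hle ?_
    rw [hk, Nat.card_zpowers, hx]
    exact (Nat.pow_le_pow_right hp.pos hk1).trans (by rw [pow_one])
  rw [heq]
  exact mem_centralizer_singleton_iff.2 hg.symm

/-- a self-centralising Sylow subgroup of prime order -/
theorem rule (hp : p.Prime) (h1 : p ∣ Nat.card X) (hp2 : ¬ p ^ 2 ∣ Nat.card X)
    (hiso : ∀ (x : X) (r : ℕ), r.Prime → orderOf x ≠ p * r) :
    ∃ (x : X) (b s : ℕ), orderOf x = p ∧ b ∣ p - 1 ∧ Nat.card (normalizer ((zpowers x : Subgroup X) : Set X)) = p * b ∧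
      Nat.card X = p * b * s ∧ s % p = 1 := by
  have : Fact p.Prime := ⟨hp⟩
  obtain ⟨x, hx⟩ := exists_prime_orderOf_dvd_card' p h1
  obtain ⟨b, hb, hN⟩ := Cfsg.Agent.SmallSimple.S1000.SevenCases.card_normalizer hp hx
    (fun g hg => mem_zpowers_of_comm hp hp2 hiso hx g hg)
  obtain ⟨s, hs, hs1⟩ := Cfsg.Agent.SmallSimple.S1000.SevenCases.exists_modEq hp hx hp2
  refine ⟨x, b, s, hx, hb, hN, by rw [← hN]; exact hs, ?_⟩
  rw [hs1, Nat.mod_eq_of_lt hp.one_lt]

theorem rule_mod (hp : p.Prime) (h1 : p ∣ Nat.card X) (hp2 : ¬ p ^ 2 ∣ Nat.card X)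
    (hiso : ∀ (x : X) (r : ℕ), r.Prime → orderOf x ≠ p * r) :
    ∃ b, b ∣ p - 1 ∧ (Nat.card X / p) % p = b % p := by
  obtain ⟨x, b, s, -, hb, -, hs, hs1⟩ := rule hp h1 hp2 hiso
  refine ⟨b, hb, ?_⟩
  rw [hs, mul_assoc, Nat.mul_div_cancel_left _ hp.pos, Nat.mul_mod, hs1, mul_one, Nat.mod_mod]

/-- the same in a subgroup, if the order of the normaliser is known -/
theorem rule_sub (hp : p.Prime) (hp2 : ¬ p ^ 2 ∣ Nat.card X)
    (hiso : ∀ (x : X) (r : ℕ), r.Prime → orderOf x ≠ p * r) {e : ℕ}
    (hE : ∀ x : X, orderOf x = p → Nat.card (normalizer ((zpowers x : Subgroup X) : Set X)) = p * e) (H : Subgroup X)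
    (h1 : p ∣ Nat.card H) : ∃ b, b ∣ e ∧ (Nat.card H / p) % p = b % p := by
  have hp2' : ¬ p ^ 2 ∣ Nat.card H := fun h => hp2 (h.trans (Subgroup.card_subgroup_dvd_card H))
  obtain ⟨y, b, s, hy, hb, hN, hs, hs1⟩ := rule (X := H) hp h1 hp2' (fun y r hr h => hiso y r hr (by
    rw [Subgroup.orderOf_coe, h]))
  refine ⟨b, ?_, ?_⟩
  · have h2 := Cfsg.Agent.SmallSimple.S1000.SevenCases.card_normalizer_sub (x := (y : X)) H y.2
    have h3 : Nat.card (H ⊓ normalizer ((zpowers (y : X) : Subgroup X) : Set X) : Subgroup X) ∣ p * e := by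
      rw [← hE y (by rw [Subgroup.orderOf_coe, hy])]
      exact Subgroup.card_dvd_of_le inf_le_right
    have h4 : (⟨(y : X), y.2⟩ : H) = y := rfl
    rw [← h2, h4, hN] at h3
    exact Nat.dvd_of_mul_dvd_mul_left hp.pos h3
  · rw [hs, mul_assoc, Nat.mul_div_cancel_left _ hp.pos, Nat.mul_mod, hs1, mul_one, Nat.mod_mod]

end rule

set_option synthInstance.maxHeartbeats 400000 in
set_option synthInstance.maxSize 8192 in
theorem arith {n h : ℕ} (hn : n ≤ 52) (hnh : h * n = 4245696) (h3 : 3 ∣ n)
    (h7 : 7 ∣ h → ∃ b, b ∣ 7 - 1 ∧ (h / 7) % 7 = b % 7)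
    (h13 : 13 ∣ h → ∃ b, b ∣ 6 ∧ (h / 13) % 13 = b % 13) : n = 3 ∨ n = 6 ∨ n = 27 ∨ n = 42 := by
  have key : ∀ n ∈ Finset.range 53, 4245696 % n = 0 → 3 ∣ n →
      (7 ∣ 4245696 / n → ∃ b ∈ Finset.range 7, b ∣ 6 ∧ (4245696 / n / 7) % 7 = b % 7) →
      (13 ∣ 4245696 / n → ∃ b ∈ Finset.range 13, b ∣ 6 ∧ (4245696 / n / 13) % 13 = b % 13) →
      n = 3 ∨ n = 6 ∨ n = 27 ∨ n = 42 := by decide +kernel
  have hn0 : 0 < n := Nat.pos_of_ne_zero (by rintro rfl; omega)
  have hh : 4245696 / n = h := by rw [← hnh, Nat.mul_div_cancel _ hn0]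
  refine key n (Finset.mem_range.2 (by omega)) (by rw [← hnh]; exact Nat.mul_mod_left h n) h3 ?_ ?_
  · rw [hh]
    intro hd
    obtain ⟨b, hb, hb'⟩ := h7 hd
    exact ⟨b, Finset.mem_range.2 (by have := Nat.le_of_dvd (by norm_num) hb; omega), hb, hb'⟩
  · rw [hh]
    intro hd
    obtain ⟨b, hb, hb'⟩ := h13 hd
    exact ⟨b, Finset.mem_range.2 (by have := Nat.le_of_dvd (by norm_num) hb; omega), hb, hb'⟩

section three

variable {F : Type u} [Field F] [Fintype F] (hF : Fintype.card F = 3)

include hF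

theorem card_three : Nat.card ↥(chevG2.group F) = 4245696 := by
  rw [Cfsg.Agent.S1059.result (F := F) hF]
  norm_num

theorem order_three (x : ↥(chevG2.group F)) :
    orderOf x ∣ 12 ∨ orderOf x ∣ 8 ∨ orderOf x ∣ 13 ∨ orderOf x ∣ 7 ∨ orderOf x ∣ 9 := by
  have : Fact (Nat.Prime 3) := ⟨Nat.prime_three⟩
  obtain ⟨N, hN, h⟩ := Cfsg.Agent.H161.G2Main.upper (p := 3) (n := 1) (by rw [hF]; norm_num) (by norm_num) ⟨x, rfl⟩
  norm_num at h
  rcases h with h | h | h | h | h | h <;> subst h
  · exact Or.inl hN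
  · exact Or.inl (hN.trans (by norm_num))
  · exact Or.inr (Or.inl hN)
  · exact Or.inr (Or.inr (Or.inl hN))
  · exact Or.inr (Or.inr (Or.inr (Or.inl hN)))
  · exact Or.inr (Or.inr (Or.inr (Or.inr hN)))

theorem order_le_three (x : ↥(chevG2.group F)) : orderOf x ≤ 13 := by
  rcases order_three hF x with h | h | h | h | h
  · exact (Nat.le_of_dvd (by norm_num) h).trans (by norm_num)
  · exact (Nat.le_of_dvd (by norm_num) h).trans (by norm_num)
  · exact Nat.le_of_dvd (by norm_num) h
  · exact (Nat.le_of_dvd (by norm_num) h).trans (by norm_num)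
  · exact (Nat.le_of_dvd (by norm_num) h).trans (by norm_num)

theorem iso_top {p : ℕ} (hp : p = 7 ∨ p = 13) (x : ↥(chevG2.group F)) (r : ℕ) (hr : r.Prime) :
    orderOf x ≠ p * r := by
  intro h
  have h2 := hr.two_le
  have h1 := order_three hF x
  rw [h] at h1
  rcases hp with rfl | rfl
  · rcases h1 with h1 | h1 | h1 | h1 | h1
    · have := Nat.le_of_dvd (by norm_num) h1; omega
    · have := Nat.le_of_dvd (by norm_num) h1; omega
    · have := Nat.le_of_dvd (by norm_num) h1; omega
    · have := Nat.le_of_dvd (by norm_num) h1; omega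
    · have := Nat.le_of_dvd (by norm_num) h1; omega
  · rcases h1 with h1 | h1 | h1 | h1 | h1
    · have := Nat.le_of_dvd (by norm_num) h1; omega
    · have := Nat.le_of_dvd (by norm_num) h1; omega
    · have := Nat.le_of_dvd (by norm_num) h1; omega
    · have := Nat.le_of_dvd (by norm_num) h1; omega
    · have := Nat.le_of_dvd (by norm_num) h1; omega

theorem iso_of (H : Subgroup ↥(chevG2.group F)) {p : ℕ} (hp : p = 7 ∨ p = 13) (x : H) (r : ℕ) (hr : r.Prime) :
    orderOf x ≠ p * r := fun h => iso_top hF hp x r hr (by rw [Subgroup.orderOf_coe, h])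

/-- subgroups of index prime to 3 -/
theorem index_prime_three (H : Subgroup ↥(chevG2.group F)) (hH : H ≠ ⊤) (h3 : ¬ 3 ∣ H.index) : 243 ≤ H.index := by
  classical
  have : Fact (Nat.Prime 3) := ⟨Nat.prime_three⟩
  have : CharP F 3 := charP_of_card_eq_prime_pow (f := 1) (by rw [hF]; norm_num)
  have : Finite (GL chevG2.Idx F) := inferInstance
  have hp : Cfsg.Agent.Nodes.RGDChev.IsType chevG2 2 CoxeterMatrix.G₂ := by
    simp [Cfsg.Agent.Nodes.RGDChev.IsType, Cfsg.Agent.Nodes.RGDChev.typeList]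
  let cs : CoxeterSystem CoxeterMatrix.G₂ CoxeterMatrix.G₂.Group := CoxeterMatrix.G₂.toCoxeterSystem
  have hW : Finite CoxeterMatrix.G₂.Group := Cfsg.Agent.Nodes.RGDChev.finite_W hp cs
  have R := Cfsg.Agent.Nodes.RGDChev.rgd (K := F) hp cs 3
  obtain ⟨i, hi⟩ := Cfsg.Agent.H62.PPIdx.exists_card_VJ_le R (Cfsg.Agent.Nodes.RGDChev.G1_eq_top hp cs (K := F)) hH h3
  have h5 : ∀ i : Fin 2, 5 ≤ Cfsg.Agent.H62.PPChev.num chevG2 i := by decide +kernel
  have h6 := (Cfsg.Agent.H62.PPChev.pow_le_card_VJ hp cs 3 i (h5 i)).trans hi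
  rw [hF] at h6
  exact h6

/-- there is no subgroup of index 27 -/
theorem index_ne_27 (H : Subgroup ↥(chevG2.group F)) : H.index ≠ 27 := by
  intro hH
  have hfin : Finite (GL chevG2.Idx F) := inferInstance
  have hc : Nat.card H = 157248 := by
    have h1 := H.card_mul_index
    rw [hH, card_three hF] at h1
    omega
  obtain ⟨x, b, s, hx, hb, hN, hs, hs1⟩ := rule (X := H) (p := 7) (by norm_num) (by rw [hc]; norm_num)
    (by rw [hc]; norm_num) (iso_of hF H (Or.inl rfl))
  -- the Sylow 7-subgroup is self-normalising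
  have hb1 : b = 1 := by
    have h6 : b ≤ 6 := Nat.le_of_dvd (by norm_num) hb
    rw [hc] at hs
    have h7 : b * s = 22464 := by
      have : 7 * (b * s) = 7 * 22464 := by rw [← mul_assoc, ← hs]
      omega
    have h8 : (b * s) % 7 = b % 7 := by rw [Nat.mul_mod, hs1, mul_one, Nat.mod_mod]
    rw [h7] at h8
    omega
  subst hb1
  have : Fact (Nat.Prime 7) := ⟨by norm_num⟩
  have h7c : Nat.card (zpowers x) = 7 := by rw [Nat.card_zpowers, hx]
  let P : Sylow 7 H := Sylow.ofCard (zpowers x) (by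
    rw [h7c, hc]
    have : (157248 : ℕ).factorization 7 = 1 := by
      rw [show (157248 : ℕ) = 7 ^ 1 * 22464 by norm_num]
      rw [Nat.factorization_mul (by norm_num) (by norm_num), Nat.Prime.factorization_pow (by norm_num)]
      simp [Nat.factorization_eq_zero_of_not_dvd (show ¬ 7 ∣ 22464 by norm_num)]
    rw [this, pow_one])
  have hPx : (P : Subgroup H) = zpowers x := rfl
  have hNP : normalizer ((P : Subgroup H) : Set H) ≤ centralizer ((P : Subgroup H) : Set H) := by
    have h1 : normalizer ((zpowers x : Subgroup H) : Set H) = zpowers x := by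
      symm
      refine Subgroup.eq_of_le_of_card_ge le_normalizer ?_
      rw [hN, h7c]
    rw [hPx, h1]
    intro y hy
    rw [mem_centralizer_iff]
    intro z hz
    obtain ⟨i, rfl⟩ := hy
    obtain ⟨j, rfl⟩ := hz
    show x ^ j * x ^ i = x ^ i * x ^ j
    rw [← zpow_add, ← zpow_add, add_comm]
  have hcomp := MonoidHom.ker_transferSylow_isComplement' P hNP
  set M : Subgroup H := (MonoidHom.transferSylow P hNP).ker with hM
  have hMc : Nat.card M * 7 = 157248 := by
    have h1 := hcomp.card_mul_card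
    rwa [hPx, h7c, hc] at h1
  have hMi : M.index = 7 := by
    have h1 := M.card_mul_index
    rw [hc] at h1
    have h2 : Nat.card M = 22464 := by omega
    rw [h2] at h1
    omega
  have hM13 : 13 ∣ Nat.card M := by
    have h2 : Nat.card M = 22464 := by omega
    rw [h2]; norm_num
  -- Frattini
  have : Fact (Nat.Prime 13) := ⟨by norm_num⟩
  obtain ⟨y, hy⟩ := exists_prime_orderOf_dvd_card' 13 hM13
  have hyo : orderOf (y : H) = 13 := by rw [Subgroup.orderOf_coe, hy]
  have h132 : ¬ 13 ^ 2 ∣ Nat.card H := by rw [hc]; norm_num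
  have h1 := Cfsg.Agent.SmallSimple.S1000.SevenCases.card_normalizer_eq (X := H) (p := 13) (by norm_num) hyo h132 M y.2
  obtain ⟨e, he, hNe⟩ := Cfsg.Agent.SmallSimple.S1000.SevenCases.card_normalizer (X := H) (p := 13) (by norm_num) hyo
    (fun g hg => mem_zpowers_of_comm (by norm_num) h132 (iso_of hF H (Or.inr rfl)) hyo g hg)
  rw [hNe, hMi] at h1
  have h2 : 7 ∣ 13 * e := Dvd.intro_left _ h1.symm
  have h3 : 7 ∣ e := (Nat.Coprime.dvd_mul_left (by norm_num)).1 h2
  have h4 : 7 ∣ 12 := h3.trans he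
  omega

theorem norm_thirteen (x : ↥(chevG2.group F)) (hx : orderOf x = 13) :
    Nat.card (normalizer ((zpowers x : Subgroup ↥(chevG2.group F)) : Set ↥(chevG2.group F))) = 13 * 6 := by
  have hfin : Finite (GL chevG2.Idx F) := inferInstance
  have h2 : ¬ 13 ^ 2 ∣ Nat.card ↥(chevG2.group F) := by rw [card_three hF]; norm_num
  obtain ⟨e, he, hN⟩ := Cfsg.Agent.SmallSimple.S1000.SevenCases.card_normalizer (p := 13) (by norm_num) hx
    (fun g hg => mem_zpowers_of_comm (by norm_num) h2 (iso_top hF (Or.inr rfl)) hx g hg)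
  obtain ⟨n, hn, hn1⟩ := Cfsg.Agent.SmallSimple.S1000.SevenCases.exists_modEq (by norm_num) hx h2
  rw [hN]
  rw [hN, card_three hF] at hn
  have h6 : e ≤ 12 := Nat.le_of_dvd (by norm_num) he
  have h7 : e * n = 326592 := by
    have : 13 * (e * n) = 13 * 326592 := by rw [← mul_assoc, ← hn]
    omega
  have h8 : (e * n) % 13 = e % 13 := by rw [Nat.mul_mod, hn1, Nat.mod_eq_of_lt (show 1 < 13 by norm_num), mul_one,
    Nat.mod_mod]
  rw [h7] at h8
  omega

/-- the small indices -/
theorem index_three (H : Subgroup ↥(chevG2.group F)) (hH : H ≠ ⊤) : 52 < H.index ∨ H.index = 42 := by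
  have hfin : Finite (GL chevG2.Idx F) := inferInstance
  by_contra hcon
  push Not at hcon
  obtain ⟨h1, h2⟩ := hcon
  have h3 : 3 ∣ H.index := by
    by_contra h3
    have := index_prime_three hF H hH h3
    omega
  have hc := H.card_mul_index
  rw [card_three hF] at hc
  have hdvd : Nat.card H ∣ 4245696 := ⟨_, hc.symm⟩
  have hne : ∀ p : ℕ, p = 7 ∨ p = 13 → ¬ p ^ 2 ∣ Nat.card H := by
    intro p hp hd
    have := hd.trans hdvd
    rcases hp with rfl | rfl <;> revert this <;> norm_num
  have h4 := arith h1 hc h3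
    (fun hd => rule_mod (X := H) (p := 7) (by norm_num) hd (hne 7 (Or.inl rfl)) (iso_of hF H (Or.inl rfl)))
    (fun hd => rule_sub (X := ↥(chevG2.group F)) (p := 13) (by norm_num) (by rw [card_three hF]; norm_num)
      (iso_top hF (Or.inr rfl)) (norm_thirteen hF) H hd)
  -- degree at least 13
  have hs := simple_G2 (F := F) (by omega)
  have h13 : 13 ∣ (H.index).factorial := by
    have hk : H.normalCore = ⊥ := by
      rcases IsSimpleGroup.eq_bot_or_eq_top_of_normal H.normalCore inferInstance with h5 | h5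
      · exact h5
      · exact absurd (top_le_iff.1 (h5 ▸ normalCore_le H)) hH
    rw [normalCore_eq_ker] at hk
    have h5 : Function.Injective (MulAction.toPermHom ↥(chevG2.group F) (↥(chevG2.group F) ⧸ H)) :=
      (MonoidHom.ker_eq_bot_iff _).1 hk
    have h6 := Subgroup.card_dvd_of_injective _ h5
    rw [card_three hF, Nat.card_perm] at h6
    exact (show 13 ∣ 4245696 by norm_num).trans h6
  rcases h4 with h4 | h4 | h4 | h4
  · rw [h4] at h13; revert h13; decide
  · rw [h4] at h13; revert h13; decide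
  · exact index_ne_27 hF H h4
  · exact h2 h4

end three

section row

open MulAction Cfsg.Agent.H384.Cyc Cfsg.Agent.H482.TwoCyc

theorem false_of_three {G : Type u} {Ω : Type v} [Group G] [MulAction G Ω] {T : Subgroup G} {g : G}
    (h : TC G Ω T g) {F : Type w} [Field F] [Fintype F] (hF : Fintype.card F = 3)
    (e : ↥T ≃* ↥(chevG2.group F)) : False := by
  classical
  have := h.finG
  have := h.finΩ
  have := h.norm
  have := h.faithful
  have hfin : Finite (GL chevG2.Idx F) := inferInstance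
  have : Fact (Nat.Prime 3) := ⟨Nat.prime_three⟩
  have : CharP F 3 := charP_of_card_eq_prime_pow (f := 1) (by rw [hF]; norm_num)
  have hout : Nat.card (Cfsg.Out ↥(chevG2.group F)) = 2 := by
    have h1 := Cfsg.Agent.S2121.result (F := F) 3 1 (by rw [hF]; norm_num) (by norm_num)
    simpa using h1
  have hM : Mo ↥T 26 := by
    have h1 : Mo ↥(chevG2.group F) (2 * 13) := Cfsg.Agent.H753.Cyc.mo_of_out hout (by norm_num) (order_le_three hF)
    exact h1.congr e.symm
  have hg := orderOf_le h.cent hM g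
  obtain ⟨-, h1⟩ := exists_index h
  have hn := card_le h.two
  have hne : Nonempty Ω := by
    by_contra hcon
    rw [not_nonempty_iff] at hcon
    have := h.two
    unfold Two at this
    rw [Nat.card_of_isEmpty] at this
    omega
  obtain ⟨a⟩ := hne
  obtain ⟨h2, h3⟩ := h1 a
  -- the index
  have h4 : ((stabilizer T a).map e.toMonoidHom).index = (stabilizer T a).index := Subgroup.index_map_equiv _ e
  have h5 : (stabilizer T a).map e.toMonoidHom ≠ ⊤ := by
    intro h6
    rw [← Subgroup.index_eq_one, h4, Subgroup.index_eq_one] at h6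
    exact h3 h6
  have h6 := index_three hF _ h5
  rw [h4, h2] at h6
  have hn42 : Nat.card Ω = 42 := by omega
  -- the two cycles have length 21
  have hall : ∀ b : Ω, Nat.card (orbit (Subgroup.zpowers g) b) = Nat.card (orbit (Subgroup.zpowers g) a) := by
    intro b
    by_contra hb
    have h7 := card_le' h.two ⟨b, a, hb⟩
    omega
  have h21 : Nat.card (orbit (Subgroup.zpowers g) a) = 21 := by
    have := Fintype.ofFinite (orbitRel.Quotient (Subgroup.zpowers g) Ω)
    have h7 := card_eq_sum (K := Subgroup.zpowers g) (Ω := Ω)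
    have h8 : ∀ q : orbitRel.Quotient (Subgroup.zpowers g) Ω,
        Nat.card q.orbit = Nat.card (orbit (Subgroup.zpowers g) a) := by
      intro q
      obtain ⟨b, rfl⟩ := Quotient.exists_rep q
      exact hall b
    rw [Finset.sum_congr rfl fun q _ => h8 q, Finset.sum_const, Finset.card_univ, smul_eq_mul,
      ← Nat.card_eq_fintype_card, hn42] at h7
    have h9 : Nat.card (orbitRel.Quotient (Subgroup.zpowers g) Ω) = 2 := h.two
    rw [h9] at h7
    omega
  have hdv : 21 ∣ orderOf g := by
    rw [← h21, ← Nat.card_zpowers]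
    exact card_orbit_dvd (K := Subgroup.zpowers g) (⟦a⟧ : orbitRel.Quotient (Subgroup.zpowers g) Ω)
  -- the square of `g` induces an inner automorphism
  have hinj : Function.Injective (MulAut.conjNormal : G →* MulAut T) := by
    rw [injective_iff_map_eq_one]
    intro x hx
    have : x ∈ Subgroup.centralizer (T : Set G) := by
      rw [Subgroup.mem_centralizer_iff]
      intro t ht
      have h2 := congrArg (fun f : MulAut T => ((f ⟨t, ht⟩ : T) : G)) hx
      simp only [MulAut.conjNormal_apply, MulAut.one_apply] at h2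
      exact (mul_inv_eq_iff_eq_mul.mp h2).symm
    rw [h.cent, Subgroup.mem_bot] at this
    exact this
  let β : MulAut ↥(chevG2.group F) := MulAut.congr e (MulAut.conjNormal g)
  have hβ : orderOf β = orderOf g := by
    show orderOf (MulAut.congr e (MulAut.conjNormal g)) = _
    rw [MulEquiv.orderOf_eq, orderOf_injective _ hinj]
  have hβ2 : (QuotientGroup.mk β : Cfsg.Out ↥(chevG2.group F)) ^ 2 = 1 := by
    rw [← hout]
    exact pow_card_eq_one'
  have hβ3 : (QuotientGroup.mk (β ^ 2) : Cfsg.Out ↥(chevG2.group F)) = 1 := hβ2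
  rw [QuotientGroup.eq_one_iff] at hβ3
  obtain ⟨t, ht⟩ := hβ3
  have h21' : 21 ∣ orderOf t := by
    have h7 : orderOf (MulAut.conj t) ∣ orderOf t := orderOf_map_dvd _ t
    have h8 : orderOf (MulAut.conj t) = orderOf (β ^ 2) := by rw [ht]
    rw [h8] at h7
    refine dvd_trans ?_ h7
    have h9 : orderOf β ∣ 2 * orderOf (β ^ 2) := by
      apply orderOf_dvd_of_pow_eq_one
      rw [pow_mul, pow_orderOf_eq_one]
    rw [hβ] at h9
    exact (Nat.Coprime.dvd_mul_left (by norm_num)).1 (hdv.trans h9)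
  have h10 := order_three hF t
  rcases h10 with h7 | h7 | h7 | h7 | h7
  · have := Nat.le_of_dvd (by norm_num) (h21'.trans h7); omega
  · have := Nat.le_of_dvd (by norm_num) (h21'.trans h7); omega
  · have := Nat.le_of_dvd (by norm_num) (h21'.trans h7); omega
  · have := Nat.le_of_dvd (by norm_num) (h21'.trans h7); omega
  · have := Nat.le_of_dvd (by norm_num) (h21'.trans h7); omega

/-- **`G₂(q)`, `q ≥ 3`.** -/
theorem row_g2 : Row3.{u, v} (fun T _ => ∃ (F : Type w) (_ : Field F) (_ : Fintype F),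
    3 ≤ Fintype.card F ∧ Nonempty (T ≃* ↥(chevG2.group F))) := by
  rintro G Ω _ _ T g h ⟨F, _, _, hF, ⟨e⟩⟩
  rcases Nat.eq_or_lt_of_le hF with h3 | h4
  · exact (false_of_three h h3.symm e).elim
  · exact row_smC G Ω T g h ((smC h4).congr e.symm)

end row

end Cfsg.Agent.H332.Cyc
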